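import Mathlib.RingTheory.Smooth.Basic
import Mathlib.RingTheory.MvPolynomial.Basic
import Mathlib.Algebra.MvPolynomial.Derivation
import Mathlib.RingTheory.Localization.Away.Basic
import Mathlib.RingTheory.Noetherian.Basic
import Mathlib.RingTheory.Polynomial.Basic
import Mathlib.RingTheory.Flat.TorsionFree

/-!
If `B` becomes formally smooth over `A` after inverting `t`, then on a presentation `P → B` some
derivation of `P` with values in `I` is `t^N` on `I` modulo `I²`.
-/

universe u

open MvPolynomial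

namespace Groth.Agent.CotRigid

variable {A B : Type u} [CommRing A] [CommRing B] [Algebra A B] [IsNoetherianRing A] {d : ℕ}

theorem exists_derivation_eq_pow (t : A) (ht : IsSMulRegular B t)
    (hs : Algebra.FormallySmooth A (Localization.Away (algebraMap A B t)))
    (ψ : MvPolynomial (Fin d) A →ₐ[A] B) (hψ : Function.Surjective ψ) :
    ∃ (N : ℕ) (D : Derivation A (MvPolynomial (Fin d) A) (MvPolynomial (Fin d) A)),
      (∀ p, D p ∈ RingHom.ker ψ) ∧
      ∀ i ∈ RingHom.ker ψ, D i - C t ^ N * i ∈ RingHom.ker ψ ^ 2 := by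
  set I := RingHom.ker ψ with hI
  set S := MvPolynomial (Fin d) A ⧸ I ^ 2
  let mkS : MvPolynomial (Fin d) A →ₐ[A] S := Ideal.Quotient.mkₐ A (I ^ 2)
  have hmkS : Function.Surjective mkS := Ideal.Quotient.mk_surjective
  let τ : S →ₐ[A] B := Ideal.Quotient.liftₐ (I ^ 2) ψ fun a ha => Ideal.pow_le_self two_ne_zero ha
  have hτmk : ∀ p, τ (mkS p) = ψ p := fun p => rfl
  have hτker : ∀ a b : S, τ a = 0 → τ b = 0 → a * b = 0 := fun a b ha hb => by
    obtain ⟨p, rfl⟩ := hmkS a
    obtain ⟨q, rfl⟩ := hmkS b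
    rw [← map_mul]
    exact Ideal.Quotient.eq_zero_iff_mem.mpr (by rw [pow_two]; exact Ideal.mul_mem_mul ha hb)
  let tS : S := algebraMap A S t
  let St := Localization.Away tS
  let Bt := Localization.Away (algebraMap A B t)
  have htS : τ tS = algebraMap A B t := τ.commutes t
  have hu : IsUnit (((IsScalarTower.toAlgHom A B Bt).comp τ).toRingHom tS) := by
    change IsUnit (algebraMap B Bt (τ tS))
    rw [htS]
    exact IsLocalization.Away.algebraMap_isUnit _
  let τt : St →ₐ[A] Bt :=
    { IsLocalization.Away.lift (S := St) tS hu with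
      commutes' := fun a => by
        change IsLocalization.Away.lift tS hu (algebraMap A St a) = _
        rw [IsScalarTower.algebraMap_apply A S St, IsLocalization.Away.lift_eq]
        change algebraMap B Bt (τ (algebraMap A S a)) = _
        rw [τ.commutes, ← IsScalarTower.algebraMap_apply] }
  have hτt : ∀ a, τt (algebraMap S St a) = algebraMap B Bt (τ a) := fun a =>
    IsLocalization.Away.lift_eq tS hu a
  have hτts : Function.Surjective τt := by
    intro z
    obtain ⟨⟨b, ⟨_, m, rfl⟩⟩, rfl⟩ := IsLocalization.mk'_surjective (Submonoid.powers (algebraMap A B t)) z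
    obtain ⟨p, rfl⟩ := hψ b
    refine ⟨IsLocalization.mk' St (mkS p) (⟨tS ^ m, m, rfl⟩ : Submonoid.powers tS), ?_⟩
    rw [IsLocalization.eq_mk'_iff_mul_eq]
    change _ * algebraMap B Bt (algebraMap A B t ^ m) = _
    rw [show algebraMap A B t ^ m = τ (tS ^ m) by rw [map_pow, htS], ← hτt, ← map_mul, IsLocalization.mk'_spec, hτt, hτmk]
  have hker : ∀ z, τt z = 0 → ∃ m a, τ a = 0 ∧ algebraMap S St a = algebraMap S St tS ^ m * z := by
    intro z hz
    obtain ⟨⟨a, ⟨_, m, rfl⟩⟩, rfl⟩ := IsLocalization.mk'_surjective (Submonoid.powers tS) z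
    refine ⟨m, a, ?_, ?_⟩
    · have h := congrArg τt (IsLocalization.mk'_spec St a (⟨tS ^ m, m, rfl⟩ : Submonoid.powers tS))
      rw [map_mul, hz, zero_mul, hτt] at h
      obtain ⟨⟨_, l, rfl⟩, hl⟩ := (IsLocalization.map_eq_zero_iff (Submonoid.powers (algebraMap A B t)) Bt _).mp h.symm
      change algebraMap A B t ^ l * τ a = 0 at hl
      rw [← map_pow, ← Algebra.smul_def] at hl
      exact (ht.pow l) (hl.trans (smul_zero _).symm)
    · rw [← map_pow, mul_comm]
      exact (IsLocalization.mk'_spec St a (⟨tS ^ m, m, rfl⟩ : Submonoid.powers tS)).symm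
  have hnil : IsNilpotent (RingHom.ker (τt : St →+* Bt)) := by
    refine ⟨2, ?_⟩
    refine (pow_two (RingHom.ker (τt : St →+* Bt))).trans ?_
    rw [Ideal.zero_eq_bot, eq_bot_iff, Ideal.mul_le]
    intro x hx y hy
    obtain ⟨m, a, ha, hax⟩ := hker x hx
    obtain ⟨l, b, hb, hby⟩ := hker y hy
    have h := congrArg (algebraMap S St) (hτker a b ha hb)
    rw [map_mul, map_zero, hax, hby] at h
    have hu' : IsUnit (algebraMap S St tS) := IsLocalization.Away.algebraMap_isUnit _
    rw [Ideal.mem_bot, ← ((hu'.pow m).mul (hu'.pow l)).mul_right_eq_zero]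
    linear_combination h
  haveI := hs
  let s : Bt →ₐ[A] St := Algebra.FormallySmooth.liftOfSurjective (AlgHom.id A Bt) τt hτts hnil
  have hs' : ∀ b, τt (s b) = b := fun b =>
    AlgHom.congr_fun (Algebra.FormallySmooth.comp_liftOfSurjective (AlgHom.id A Bt) τt hτts hnil) b
  let mk : MvPolynomial (Fin d) A →ₐ[A] St := (IsScalarTower.toAlgHom A S St).comp mkS
  let σ : MvPolynomial (Fin d) A →ₐ[A] St := s.comp ((IsScalarTower.toAlgHom A B Bt).comp ψ)
  have hmkσ : ∀ p, τt (mk p - σ p) = 0 := fun p => by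
    rw [map_sub, sub_eq_zero]
    exact (hτt (mkS p)).trans (hs' _).symm
  have hsq : ∀ p q, (mk p - σ p) * (mk q - σ q) = 0 := fun p q => by
    obtain ⟨n, hn⟩ := hnil
    obtain ⟨m, a, ha, hax⟩ := hker _ (hmkσ p)
    obtain ⟨l, b, hb, hby⟩ := hker _ (hmkσ q)
    have h := congrArg (algebraMap S St) (hτker a b ha hb)
    rw [map_mul, map_zero, hax, hby] at h
    have hu' : IsUnit (algebraMap S St tS) := IsLocalization.Away.algebraMap_isUnit _
    rw [← ((hu'.pow m).mul (hu'.pow l)).mul_right_eq_zero]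
    linear_combination h
  choose e a ha hae using fun j => hker _ (hmkσ (X j))
  choose q hq using fun j => hmkS (a j)
  set N := ∑ j, e j with hN
  let D := mkDerivation A fun j => C t ^ (N - e j) * q j
  have hDI : ∀ p, D p ∈ I := by
    intro p
    induction p using MvPolynomial.induction_on with
    | C a => simp [D]
    | add p q hp hq => rw [map_add]; exact add_mem hp hq
    | mul_X p j hp =>
      rw [Derivation.leibniz, smul_eq_mul, smul_eq_mul, mkDerivation_X]
      refine add_mem (Ideal.mul_mem_left _ _ (Ideal.mul_mem_left _ _ ?_)) (Ideal.mul_mem_left _ _ hp)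
      rw [hI, RingHom.mem_ker, ← hτmk, hq, ha]
  have hmkC : mk (C t) = algebraMap S St tS := congrArg (algebraMap S St) (mkS.commutes t)
  have hkey : ∀ p, mk (D p) = mk (C t) ^ N * (mk p - σ p) := by
    intro p
    induction p using MvPolynomial.induction_on with
    | C a =>
      rw [← algebraMap_eq, Derivation.map_algebraMap, map_zero, mk.commutes a, σ.commutes a,
        sub_self, mul_zero]
    | add p q hp hq => simp only [map_add, hp, hq]; ring
    | mul_X p j hp =>
      have hj : mk (q j) = mk (C t) ^ e j * (mk (X j) - σ (X j)) := by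
        change algebraMap S St (mkS (q j)) = _
        rw [hq, hae, hmkC]
      have hpow : mk (C t) ^ N = mk (C t) ^ (N - e j) * mk (C t) ^ e j := by
        rw [← pow_add, Nat.sub_add_cancel (Finset.single_le_sum (fun _ _ => Nat.zero_le _) (Finset.mem_univ j))]
      rw [Derivation.leibniz, smul_eq_mul, smul_eq_mul, mkDerivation_X, map_add, map_mul, map_mul, map_mul,
        map_pow, hp, hj, map_mul, map_mul]
      linear_combination mk (C t) ^ N * hsq p (X j) - mk p * (mk (X j) - σ (X j)) * hpow
  obtain ⟨G, hG⟩ := (isNoetherianRing_iff_ideal_fg _).mp inferInstance I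
  have hgen : ∀ i ∈ I, ∃ K, C t ^ K * (D i - C t ^ N * i) ∈ I ^ 2 := by
    intro i hi
    have h := hkey i
    have h0 : σ i = 0 := by
      change s (algebraMap B Bt (ψ i)) = 0
      rw [RingHom.mem_ker.mp hi, map_zero, map_zero]
    rw [h0, sub_zero, ← map_pow, ← map_mul] at h
    obtain ⟨⟨_, K, rfl⟩, hK⟩ := (IsLocalization.eq_iff_exists (Submonoid.powers tS) St).mp h
    refine ⟨K, Ideal.Quotient.eq_zero_iff_mem.mp ?_⟩
    change mkS _ = 0
    rw [map_mul, map_pow, show mkS (C t) = tS from mkS.commutes t, map_sub, mul_sub, sub_eq_zero]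
    exact hK
  choose K hK using hgen
  let K₀ := G.attach.sum fun i => K i.1 (hG ▸ Ideal.subset_span i.2)
  refine ⟨N + K₀, (C t ^ K₀) • D, fun p => by
    rw [Derivation.smul_apply, smul_eq_mul]; exact Ideal.mul_mem_left _ _ (hDI p), fun i hi => ?_⟩
  rw [Derivation.smul_apply, smul_eq_mul]
  rw [pow_add, mul_assoc, mul_left_comm, ← mul_sub]
  rw [← hG] at hi
  induction hi using Submodule.span_induction with
  | mem i hi =>
    have hi' : i ∈ I := hG ▸ Ideal.subset_span hi
    have hle : K i hi' ≤ K₀ :=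
      Finset.single_le_sum (f := fun i : ↥G => K i.1 (hG ▸ Ideal.subset_span i.2))
        (fun _ _ => Nat.zero_le _) (Finset.mem_attach G ⟨i, hi⟩)
    rw [← Nat.sub_add_cancel hle, pow_add, mul_assoc]
    exact Ideal.mul_mem_left _ _ (hK i hi')
  | zero => simp
  | add x y _ _ hx hy =>
    rw [map_add, show C t ^ K₀ * (D x + D y - C t ^ N * (x + y)) =
      C t ^ K₀ * (D x - C t ^ N * x) + C t ^ K₀ * (D y - C t ^ N * y) by ring]
    exact add_mem hx hy
  | smul r x hx' hx =>
    rw [smul_eq_mul, Derivation.leibniz, smul_eq_mul, smul_eq_mul,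
      show C t ^ K₀ * (r * D x + x * D r - C t ^ N * (r * x)) =
        r * (C t ^ K₀ * (D x - C t ^ N * x)) + C t ^ K₀ * (x * D r) by ring]
    refine add_mem (Ideal.mul_mem_left _ _ hx) (Ideal.mul_mem_left _ _ ?_)
    rw [pow_two]
    exact Ideal.mul_mem_mul (hG.le hx') (hDI r)

end Groth.Agent.CotRigid
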