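import Groth.Agent.CotRigid.T1
import Groth.Agent.CotRigid.Generic
import Mathlib.RingTheory.Smooth.Locus
import Mathlib.RingTheory.PowerSeries.Trunc
import Mathlib.RingTheory.Jacobson.Ring
import Mathlib.FieldTheory.IsAlgClosed.Basic

/-!
A rigid singular algebra is not smoothed by a flat family over a curve.
-/

universe u

open MvPolynomial

namespace Groth.Agent.CotRigid

section Digits

variable {k A : Type u} [Field k] [CommRing A] [IsDomain A] [Algebra k A] {t : A}
  (ht0 : t ≠ 0) (htu : ¬ IsUnit t) (hres : ∀ a : A, ∃ c : k, t ∣ a - algebraMap k A c)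

/-- Constant digit. -/
noncomputable def dig (a : A) : k := (hres a).choose

/-- Next step. -/
noncomputable def step (a : A) : A := (hres a).choose_spec.choose

theorem dig_spec (a : A) : a = algebraMap k A (dig hres a) + t * step hres a :=
  eq_add_of_sub_eq' (hres a).choose_spec.choose_spec

/-- The digit series. -/
noncomputable def ser (a : A) : PowerSeries k := PowerSeries.mk fun n => dig hres ((step hres)^[n] a)

include ht0 htu hres

theorem trunc_spec (a : A) : ∀ n, a = Polynomial.aeval t (PowerSeries.trunc n (ser hres a)) +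
    t ^ n * (step hres)^[n] a
  | 0 => by simp
  | n + 1 => by
    conv_lhs => rw [trunc_spec a n, dig_spec hres ((step hres)^[n] a)]
    rw [PowerSeries.trunc_succ, map_add, Polynomial.aeval_monomial, ser, PowerSeries.coeff_mk,
      Function.iterate_succ_apply']
    ring

theorem X_pow_dvd : ∀ (n : ℕ) (p : Polynomial k), t ^ n ∣ Polynomial.aeval t p → Polynomial.X ^ n ∣ p
  | 0, p, _ => by simp
  | n + 1, p, h => by
    rw [← p.X_mul_divX_add, map_add, map_mul, Polynomial.aeval_X, Polynomial.aeval_C] at h
    have h0 : p.coeff 0 = 0 := by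
      by_contra hc
      have : t ∣ algebraMap k A (p.coeff 0) :=
        (dvd_add_right (dvd_mul_right t _)).mp ((dvd_pow_self t n.succ_ne_zero).trans h)
      exact htu (isUnit_of_dvd_unit this ((Ne.isUnit hc).map _))
    rw [h0, map_zero, add_zero, pow_succ', mul_dvd_mul_iff_left ht0] at h
    rw [← p.X_mul_divX_add, h0, map_zero, add_zero, pow_succ']
    exact mul_dvd_mul_left _ (X_pow_dvd n _ h)

theorem ser_unique (a : A) (f : PowerSeries k)
    (hf : ∀ n, t ^ n ∣ a - Polynomial.aeval t (PowerSeries.trunc n f)) : ser hres a = f := by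
  ext n
  have h1 : t ^ (n + 1) ∣ Polynomial.aeval t (PowerSeries.trunc (n + 1) (ser hres a) -
      PowerSeries.trunc (n + 1) f) := by
    rw [map_sub]
    have := (hf (n + 1)).sub (Dvd.intro _ (eq_sub_of_add_eq' (trunc_spec ht0 htu hres a (n + 1)).symm) :
      t ^ (n + 1) ∣ a - Polynomial.aeval t (PowerSeries.trunc (n + 1) (ser hres a)))
    simpa using this
  have h2 := Polynomial.X_pow_dvd_iff.mp (X_pow_dvd ht0 htu hres _ _ h1) n (Nat.lt_succ_self n)
  rw [Polynomial.coeff_sub, PowerSeries.coeff_trunc, PowerSeries.coeff_trunc, if_pos (Nat.lt_succ_self n),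
    if_pos (Nat.lt_succ_self n), sub_eq_zero] at h2
  exact h2

theorem dvd_aeval_sub (n : ℕ) (p q : Polynomial k) (h : ∀ m < n, p.coeff m = q.coeff m) :
    t ^ n ∣ Polynomial.aeval t p - Polynomial.aeval t q := by
  obtain ⟨r, hr⟩ := (Polynomial.X_pow_dvd_iff (f := p - q) (n := n)).mpr
    fun m hm => by rw [Polynomial.coeff_sub, h m hm, sub_self]
  rw [← map_sub, hr, map_mul, map_pow, Polynomial.aeval_X]
  exact dvd_mul_right _ _

theorem ser_algebraMap (c : k) : ser hres (algebraMap k A c) = PowerSeries.C c :=
  ser_unique ht0 htu hres _ _ fun n => by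
    rcases n with _ | n
    · simp
    · rw [PowerSeries.trunc_C, Polynomial.aeval_C, sub_self]
      exact dvd_zero _

theorem ser_add (a b : A) : ser hres (a + b) = ser hres a + ser hres b :=
  ser_unique ht0 htu hres _ _ fun n => ⟨(step hres)^[n] a + (step hres)^[n] b, by
    rw [map_add, map_add]
    linear_combination trunc_spec ht0 htu hres a n + trunc_spec ht0 htu hres b n⟩

theorem ser_mul (a b : A) : ser hres (a * b) = ser hres a * ser hres b :=
  ser_unique ht0 htu hres _ _ fun n => by
    have h1 := trunc_spec ht0 htu hres a n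
    have h2 := trunc_spec ht0 htu hres b n
    have h3 := dvd_aeval_sub ht0 htu hres n
      (PowerSeries.trunc n (ser hres a) * PowerSeries.trunc n (ser hres b))
      (PowerSeries.trunc n (ser hres a * ser hres b)) fun m hm => by
        rw [← PowerSeries.trunc_trunc_mul_trunc, PowerSeries.coeff_trunc, if_pos hm, ← Polynomial.coe_mul,
          Polynomial.coeff_coe]
    rw [map_mul] at h3
    obtain ⟨r, hr⟩ := h3
    exact ⟨r + Polynomial.aeval t (PowerSeries.trunc n (ser hres a)) * (step hres)^[n] b +
      (step hres)^[n] a * b, by linear_combination hr + b * h1 + Polynomial.aeval t (PowerSeries.trunc n (ser hres a)) * h2⟩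

theorem ser_t : ser hres t = PowerSeries.X :=
  ser_unique ht0 htu hres _ _ fun n => by
    rcases n with _ | _ | n
    · simp
    · simp [PowerSeries.trunc_one_X]
    · rw [PowerSeries.trunc_X, Polynomial.aeval_X, sub_self]
      exact dvd_zero _

/-- Expansion at `t`. -/
noncomputable def chi : A →ₐ[k] PowerSeries k where
  toFun := ser hres
  map_one' := by rw [← map_one (algebraMap k A), ser_algebraMap ht0 htu hres, map_one]
  map_mul' := ser_mul ht0 htu hres
  map_zero' := by rw [← map_zero (algebraMap k A), ser_algebraMap ht0 htu hres, map_zero]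
  map_add' := ser_add ht0 htu hres
  commutes' c := ser_algebraMap ht0 htu hres c

theorem chi_t : chi ht0 htu hres t = PowerSeries.X := ser_t ht0 htu hres

theorem dvd_sub_constantCoeff (a : A) :
    t ∣ a - algebraMap k A (PowerSeries.constantCoeff (chi ht0 htu hres a)) := by
  refine ⟨step hres a, sub_eq_of_eq_add' ?_⟩
  rw [show PowerSeries.constantCoeff (chi ht0 htu hres a) = dig hres a by
    change PowerSeries.constantCoeff (PowerSeries.mk fun n => dig hres ((step hres)^[n] a)) = _
    rw [PowerSeries.constantCoeff_mk]; rfl]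
  exact dig_spec hres a

end Digits

section Coeff

variable {R : Type u} [CommRing R]

theorem coeff_mul_mem (J K : Ideal R) {m : ℕ} {F G : PowerSeries R}
    (hF : ∀ a ≤ m, PowerSeries.coeff a F ∈ J) (hG : ∀ a ≤ m, PowerSeries.coeff a G ∈ K) :
    PowerSeries.coeff m (F * G) ∈ J * K := by
  rw [PowerSeries.coeff_mul]
  exact sum_mem fun x hx => Ideal.mul_mem_mul (hF _ (by have := Finset.mem_antidiagonal.mp hx; omega))
    (hG _ (by have := Finset.mem_antidiagonal.mp hx; omega))

theorem coeff_mul_mem' (K : Ideal R) {m : ℕ} (F : PowerSeries R) {G : PowerSeries R}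
    (hG : ∀ a ≤ m, PowerSeries.coeff a G ∈ K) : PowerSeries.coeff m (F * G) ∈ K := by
  rw [← Ideal.top_mul K]
  exact coeff_mul_mem ⊤ K (fun _ _ => trivial) hG

end Coeff

theorem not_smoothing {k : Type u} [Field k] [IsAlgClosed k] (B₀ : Type u) [CommRing B₀] [Algebra k B₀]
    [Algebra.FiniteType k B₀] (hrigid : Subsingleton (CotT.T1 (CotT.canon k B₀) B₀))
    {A B : Type u} [CommRing A] [CommRing B] [IsDomain A] [Algebra k A] [Algebra.FiniteType k A]
    {t : A} (ht : (Ideal.span {t}).IsMaximal) (ht0 : t ≠ 0)
    [Algebra A B] [Algebra.FiniteType A B] [Module.Flat A B] [Algebra k B] [IsScalarTower k A B]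
    (e : (B ⧸ Ideal.span {algebraMap A B t}) ≃ₐ[k] B₀)
    (hall : ∀ q : PrimeSpectrum B, algebraMap A B t ∉ q.asIdeal → q ∈ Algebra.smoothLocus A B) :
    Algebra.Smooth k B₀ := by
  classical
  haveI : IsNoetherianRing A := Algebra.FiniteType.isNoetherianRing k A
  haveI : Algebra.FinitePresentation A B := Algebra.FinitePresentation.of_finiteType.mp ‹_›
  have htu : ¬ IsUnit t := fun h => ht.ne_top (Ideal.span_singleton_eq_top.mpr h)
  have hres : ∀ a : A, ∃ c : k, t ∣ a - algebraMap k A c := by
    haveI := ht
    letI := Ideal.Quotient.field (Ideal.span {t})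
    haveI : Module.Finite k (A ⧸ Ideal.span {t}) := finite_of_finite_type_of_isJacobsonRing k _
    intro a
    obtain ⟨c, hc⟩ := (IsAlgClosed.algebraMap_bijective_of_isIntegral (k := k)).2
      (Ideal.Quotient.mk (Ideal.span {t}) a)
    refine ⟨c, ?_⟩
    rw [← Ideal.mem_span_singleton, ← Ideal.Quotient.eq, ← hc]
    exact (IsScalarTower.algebraMap_apply k A (A ⧸ Ideal.span {t}) c).symm.symm
  have hreg : IsSMulRegular B t := fun x y h => smul_right_injective B ht0 h
  have hs : Algebra.FormallySmooth A (Localization.Away (algebraMap A B t)) :=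
    Algebra.basicOpen_subset_smoothLocus_iff.mp fun q hq => hall q hq
  obtain ⟨d, ψ, hψ⟩ := Algebra.FiniteType.iff_quotient_mvPolynomial''.mp ‹Algebra.FiniteType A B›
  obtain ⟨N, D, hDI, hD⟩ := exists_derivation_eq_pow t hreg hs ψ hψ
  -- reduction
  let χ := chi ht0 htu hres
  let ev : A →+* k := (PowerSeries.constantCoeff (R := k)).comp χ.toRingHom
  have hev : ∀ a, t ∣ a - algebraMap k A (ev a) := dvd_sub_constantCoeff ht0 htu hres
  let red : MvPolynomial (Fin d) A →+* MvPolynomial (Fin d) k := MvPolynomial.map ev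
  let q₀ : B →ₐ[k] B₀ := e.toAlgHom.comp (Ideal.Quotient.mkₐ k _)
  have hq₀ : ∀ b, q₀ b = 0 ↔ algebraMap A B t ∣ b := fun b => by
    simp [q₀, ← Ideal.mem_span_singleton, Ideal.Quotient.eq_zero_iff_mem]
  let π : MvPolynomial (Fin d) k →ₐ[k] B₀ := MvPolynomial.aeval fun i => q₀ (ψ (X i))
  have hq₀A : ∀ a, q₀ (algebraMap A B a) = algebraMap k B₀ (ev a) := by
    intro a
    obtain ⟨a', ha'⟩ := hev a
    rw [← sub_eq_zero, ← q₀.commutes, ← map_sub, hq₀, IsScalarTower.algebraMap_apply k A B, ← map_sub,
      ha', map_mul]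
    exact dvd_mul_right _ _
  have hπred : ∀ p, π (red p) = q₀ (ψ p) := by
    intro p
    induction p using MvPolynomial.induction_on with
    | C a =>
      rw [MvPolynomial.map_C, ← algebraMap_eq, π.commutes, ← algebraMap_eq, ψ.commutes, hq₀A]
    | add p q hp hq => simp only [map_add, hp, hq]
    | mul_X p j hp => simp only [map_mul, MvPolynomial.map_X, hp, red, π, aeval_X]
  have hπ : Function.Surjective π := by
    intro b
    obtain ⟨b', hb'⟩ := e.surjective b
    obtain ⟨b', rfl⟩ := Ideal.Quotient.mk_surjective b'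
    obtain ⟨p, rfl⟩ := hψ b'
    exact ⟨red p, (hπred p).trans hb'⟩
  have hred : Function.Surjective red := by
    refine MvPolynomial.map_surjective _ fun c => ⟨algebraMap k A c, ?_⟩
    change PowerSeries.constantCoeff (χ (algebraMap k A c)) = c
    rw [χ.commutes]
    exact PowerSeries.constantCoeff_C c
  have hredker : ∀ p, red p = 0 → C t ∣ p := fun p hp => by
    refine (MvPolynomial.C_dvd_iff_dvd_coeff t p).mpr fun i => ?_
    have h := congrArg (MvPolynomial.coeff i) hp
    rw [MvPolynomial.coeff_map, MvPolynomial.coeff_zero] at h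
    simpa [h] using hev (p.coeff i)
  have hlift : ∀ f, π f = 0 → ∃ i, ψ i = 0 ∧ red i = f := by
    intro f hf
    obtain ⟨p, rfl⟩ := hred f
    rw [hπred, hq₀] at hf
    obtain ⟨b, hb⟩ := hf
    obtain ⟨p', rfl⟩ := hψ b
    refine ⟨p - C t * p', ?_, ?_⟩
    · rw [map_sub, map_mul, ← algebraMap_eq, ψ.commutes, hb, sub_self]
    · have : ev t = 0 := by
        change PowerSeries.constantCoeff (χ t) = 0
        rw [show χ t = PowerSeries.X from chi_t ht0 htu hres, PowerSeries.constantCoeff_X]
      simp [red, this]
  -- expansions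
  let θ₀ : A →+* PowerSeries (MvPolynomial (Fin d) k) :=
    (PowerSeries.map (MvPolynomial.C (σ := Fin d) (R := k))).comp χ.toRingHom
  have hθt : θ₀ t = PowerSeries.X := by
    change PowerSeries.map (MvPolynomial.C (σ := Fin d) (R := k)) (χ t) = _
    rw [show χ t = PowerSeries.X from chi_t ht0 htu hres, PowerSeries.map_X]
  let Θ := fun y : Fin d → PowerSeries (MvPolynomial (Fin d) k) => MvPolynomial.eval₂Hom θ₀ y
  let I₀ := RingHom.ker π
  let Cond := fun (n : ℕ) (y : Fin d → PowerSeries (MvPolynomial (Fin d) k)) =>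
    (∀ i, PowerSeries.constantCoeff (y i) = X i) ∧
      ∀ p, ψ p = 0 → ∀ m < n, PowerSeries.coeff m (Θ y p) ∈ I₀
  have hconst : ∀ y, (∀ i, PowerSeries.constantCoeff (y i) = X i) → ∀ p,
      PowerSeries.constantCoeff (Θ y p) = red p := by
    intro y hy p
    induction p using MvPolynomial.induction_on with
    | C a =>
      simp only [Θ, eval₂Hom_C, θ₀, RingHom.comp_apply, red, MvPolynomial.map_C, ev]
      rw [← PowerSeries.coeff_zero_eq_constantCoeff_apply, PowerSeries.coeff_map,
        PowerSeries.coeff_zero_eq_constantCoeff_apply]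
    | add p q hp hq => simp only [map_add, hp, hq]
    | mul_X p j hp => simp only [map_mul, hp, Θ, eval₂Hom_X', hy, red, MvPolynomial.map_X]
  have hΘt : ∀ y (m : ℕ), Θ y (C t ^ m) = PowerSeries.X ^ m := fun y m => by
    rw [map_pow]
    exact congrArg (· ^ m) ((eval₂Hom_C _ _ _).trans hθt)
  have hexists : ∀ n, ∃ y, Cond (n + 1) y := by
    intro n
    induction n with
    | zero =>
      refine ⟨fun i => PowerSeries.C (X i), fun i => PowerSeries.constantCoeff_C _, fun p hp m hm => ?_⟩
      obtain rfl : m = 0 := by omega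
      rw [PowerSeries.coeff_zero_eq_constantCoeff_apply, hconst _ fun i => PowerSeries.constantCoeff_C _]
      exact (hπred p).trans (by rw [hp, map_zero])
    | succ n ih =>
      obtain ⟨y, hy0, hy⟩ := ih
      let φ' : MvPolynomial (Fin d) A → B₀ := fun p => π (PowerSeries.coeff (n + 1) (Θ y p))
      have hwd : ∀ p, ψ p = 0 → red p = 0 → φ' p = 0 := by
        intro p hp hp'
        obtain ⟨p', rfl⟩ := hredker p hp'
        rw [map_mul, ← algebraMap_eq, ψ.commutes, ← Algebra.smul_def] at hp
        have hp'' : ψ p' = 0 := hreg (hp.trans (smul_zero t).symm)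
        change π _ = 0
        rw [map_mul, show Θ y (C t) = PowerSeries.X from (eval₂Hom_C _ _ _).trans hθt,
          PowerSeries.coeff_succ_X_mul]
        exact hy p' hp'' n (Nat.lt_succ_self n)
      have hφ'add : ∀ p q, φ' (p + q) = φ' p + φ' q := fun p q => by simp only [φ', map_add]
      let ℓ : MvPolynomial (Fin d) k → MvPolynomial (Fin d) A := fun f =>
        if h : π f = 0 then (hlift f h).choose else 0
      have hℓ : ∀ f, π f = 0 → ψ (ℓ f) = 0 ∧ red (ℓ f) = f := fun f h => by
        simp only [ℓ, dif_pos h]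
        exact (hlift f h).choose_spec
      have hwd' : ∀ p, ψ p = 0 → φ' (ℓ (red p)) = φ' p := by
        intro p hp
        have h : π (red p) = 0 := by rw [hπred, hp, map_zero]
        obtain ⟨h1, h2⟩ := hℓ _ h
        have := hwd (ℓ (red p) - p) (by rw [map_sub, h1, hp, sub_zero]) (by rw [map_sub, h2, sub_self])
        simpa [φ', map_sub, sub_eq_zero] using this
      obtain ⟨δ₁, hδ₁mul, hδ₁⟩ := exists_extension_of_T1 hrigid π hπ (fun f => φ' (ℓ f))
        (fun a b ha hb => by
          obtain ⟨a1, a2⟩ := hℓ a ha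
          obtain ⟨b1, b2⟩ := hℓ b hb
          have := hwd' (ℓ a + ℓ b) (by rw [map_add, a1, b1, add_zero])
          rwa [map_add, a2, b2, hφ'add] at this)
        (fun p a ha => by
          obtain ⟨a1, a2⟩ := hℓ a ha
          obtain ⟨p', rfl⟩ := hred p
          have := hwd' (p' * ℓ a) (by rw [map_mul, a1, mul_zero])
          rw [map_mul, a2] at this
          refine this.trans ?_
          change π _ = π _ * π _
          obtain ⟨r, hr⟩ := PowerSeries.X_dvd_iff.mpr
            (show PowerSeries.constantCoeff (Θ y p' - PowerSeries.C (red p')) = 0 by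
              rw [map_sub, hconst y hy0, PowerSeries.constantCoeff_C, sub_self])
          rw [map_mul (Θ y), eq_add_of_sub_eq' hr, add_mul, map_add, PowerSeries.coeff_C_mul, mul_assoc,
            PowerSeries.coeff_succ_X_mul, map_add, map_mul,
            show π (PowerSeries.coeff n (r * Θ y (ℓ a))) = 0 from
              coeff_mul_mem' I₀ r (fun c hc => hy _ a1 c (by omega)), add_zero])
      choose w hw using fun i => hπ (δ₁ (X i))
      let δ := mkDerivation k w
      have hπδ : ∀ f, π (δ f) = δ₁ f := by
        intro f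
        induction f using MvPolynomial.induction_on with
        | C c =>
          have h1 : δ₁ 1 = 0 := by simpa using hδ₁mul 1 1
          rw [← algebraMap_eq, Derivation.map_algebraMap, map_zero, Algebra.algebraMap_eq_smul_one,
            map_smul, h1, smul_zero]
        | add p q hp hq => simp only [map_add, hp, hq]
        | mul_X p j hp =>
          rw [Derivation.leibniz, smul_eq_mul, smul_eq_mul, mkDerivation_X, map_add, map_mul, map_mul,
            hp, hw, hδ₁mul]
      let y' := fun i => y i - PowerSeries.X ^ (n + 1) * PowerSeries.C (w i)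
      have hy'0 : ∀ i, PowerSeries.constantCoeff (y' i) = X i := fun i => by simp [y', hy0]
      have hchange : ∀ p, PowerSeries.X ^ (n + 2) ∣
          Θ y' p - Θ y p + PowerSeries.X ^ (n + 1) * PowerSeries.C (δ (red p)) := by
        intro p
        induction p using MvPolynomial.induction_on with
        | C a =>
          simp only [Θ, eval₂Hom_C, sub_self, red, MvPolynomial.map_C, zero_add]
          rw [← algebraMap_eq, Derivation.map_algebraMap, map_zero, mul_zero]
          exact dvd_zero _
        | add p q hp hq =>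
          obtain ⟨r, hr⟩ := hp
          obtain ⟨r', hr'⟩ := hq
          exact ⟨r + r', by simp only [map_add]; linear_combination hr + hr'⟩
        | mul_X p j hp =>
          obtain ⟨r, hr⟩ := hp
          have h1 : PowerSeries.X ∣ Θ y' p - PowerSeries.C (red p) := by
            rw [PowerSeries.X_dvd_iff, map_sub, hconst y' hy'0, PowerSeries.constantCoeff_C, sub_self]
          have h2 : PowerSeries.X ∣ y j - PowerSeries.C (X j) := by
            rw [PowerSeries.X_dvd_iff, map_sub, hy0, PowerSeries.constantCoeff_C, sub_self]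
          obtain ⟨r1, hr1⟩ := h1
          obtain ⟨r2, hr2⟩ := h2
          refine ⟨r * y j - r1 * PowerSeries.C (w j) - r2 * PowerSeries.C (δ (red p)), ?_⟩
          simp only [map_mul, Θ, eval₂Hom_X', red, MvPolynomial.map_X, y', Derivation.leibniz,
            smul_eq_mul, mkDerivation_X, δ, map_add]
          simp only [Θ, red, δ] at hr hr1
          linear_combination y j * hr - PowerSeries.X ^ (n + 1) * PowerSeries.C (w j) * hr1 -
            PowerSeries.X ^ (n + 1) * PowerSeries.C (mkDerivation k w (MvPolynomial.map ev p)) * hr2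
      refine ⟨y', hy'0, fun p hp m hm => ?_⟩
      have h := PowerSeries.X_pow_dvd_iff.mp (hchange p) m hm
      rw [map_add, map_sub, PowerSeries.coeff_X_pow_mul'] at h
      rcases Nat.lt_or_ge m (n + 1) with hlt | hge
      · rw [if_neg (by omega), add_zero, sub_eq_zero] at h
        rw [h]
        exact hy p hp m hlt
      · obtain rfl : m = n + 1 := by omega
        rw [if_pos le_rfl, Nat.sub_self, PowerSeries.coeff_zero_eq_constantCoeff_apply,
          PowerSeries.constantCoeff_C, sub_add_eq_add_sub, sub_eq_zero, ← eq_sub_iff_add_eq] at h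
        change π _ = 0
        rw [h, map_sub, hπδ, hδ₁ _ (by rw [hπred, hp, map_zero]), sub_eq_zero]
        exact (hwd' p hp).symm
  obtain ⟨y, hy0, hy⟩ := hexists N
  -- straightening
  have hsurj : ∀ (m : ℕ) (f : MvPolynomial (Fin d) k), ∃ p,
      PowerSeries.X ^ m ∣ Θ y p - PowerSeries.C f := by
    intro m
    induction m with
    | zero => exact fun f => ⟨0, by simp⟩
    | succ m ih =>
      intro f
      obtain ⟨p, r, hr⟩ := ih f
      obtain ⟨u, hu⟩ := hred (PowerSeries.constantCoeff r)
      refine ⟨p - C t ^ m * u, ?_⟩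
      have h1 : PowerSeries.X ∣ r - Θ y u := by
        rw [PowerSeries.X_dvd_iff, map_sub, hconst y hy0, hu, sub_self]
      obtain ⟨r1, hr1⟩ := h1
      refine ⟨r1, ?_⟩
      rw [map_sub, map_mul, hΘt, pow_succ]
      linear_combination hr + PowerSeries.X ^ m * hr1
  choose x' hx' using fun i => hsurj (N + 1) (X i)
  let h : MvPolynomial (Fin d) k →+* MvPolynomial (Fin d) A :=
    MvPolynomial.eval₂Hom (MvPolynomial.C.comp (algebraMap k A)) x'
  have hh : ∀ f, PowerSeries.X ^ (N + 1) ∣ Θ y (h f) - PowerSeries.C f := by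
    intro f
    induction f using MvPolynomial.induction_on with
    | C c =>
      have : Θ y (h (C c)) = PowerSeries.C (C c) := by
        simp only [h, Θ, eval₂Hom_C, RingHom.comp_apply, θ₀]
        change PowerSeries.map _ (χ (algebraMap k A c)) = _
        rw [χ.commutes]
        exact PowerSeries.map_C _ c
      rw [this, sub_self]
      exact dvd_zero _
    | add p q hp hq =>
      obtain ⟨r, hr⟩ := hp
      obtain ⟨r', hr'⟩ := hq
      exact ⟨r + r', by simp only [map_add]; linear_combination hr + hr'⟩
    | mul_X p j hp =>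
      obtain ⟨r, hr⟩ := hp
      obtain ⟨r', hr'⟩ := hx' j
      refine ⟨r * Θ y (x' j) + PowerSeries.C p * r', ?_⟩
      have : h (X j) = x' j := eval₂Hom_X' _ _ _
      rw [map_mul h, map_mul (Θ y), this, map_mul]
      linear_combination Θ y (x' j) * hr + PowerSeries.C p * hr'
  have hhred : ∀ f, red (h f) = f := fun f => by
    have h1 := PowerSeries.X_pow_dvd_iff.mp (hh f) 0 (Nat.succ_pos N)
    rwa [PowerSeries.coeff_zero_eq_constantCoeff_apply, map_sub, hconst y hy0,
      PowerSeries.constantCoeff_C, sub_eq_zero] at h1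
  have hI : ∀ m ≤ N + 1, ∀ f, π f = 0 → ∃ i z, ψ i = 0 ∧ h f = i + C t ^ m * z := by
    intro m
    induction m with
    | zero => exact fun _ f _ => ⟨0, h f, map_zero ψ, by simp⟩
    | succ m ih =>
      intro hm f hf
      obtain ⟨i, z, hi, hiz⟩ := ih (by omega) f hf
      have hz : π (red z) = 0 := by
        rcases Nat.eq_zero_or_pos m with rfl | hm0
        · have := congrArg red hiz
          rw [map_add, map_mul, pow_zero, map_one, one_mul, hhred] at this
          rw [eq_sub_of_add_eq' this.symm, map_sub, hf, hπred, hi, map_zero, sub_zero]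
        have h1 := PowerSeries.X_pow_dvd_iff.mp (hh f) m (by omega)
        rw [map_sub, PowerSeries.coeff_C, if_neg (by omega), sub_zero, hiz, map_add, map_mul, hΘt,
          map_add, PowerSeries.coeff_X_pow_mul', if_pos le_rfl, Nat.sub_self,
          PowerSeries.coeff_zero_eq_constantCoeff_apply, hconst y hy0] at h1
        rw [eq_neg_of_add_eq_zero_right h1, map_neg, show π (PowerSeries.coeff m (Θ y i)) = 0 from
          hy i hi m (by omega), neg_zero]
      obtain ⟨i', hi', hi'z⟩ := hlift _ hz
      obtain ⟨z', hz'⟩ := hredker (z - i') (by rw [map_sub, hi'z, sub_self])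
      refine ⟨i + C t ^ m * i', z', by rw [map_add, map_mul, hi, hi', mul_zero, add_zero], ?_⟩
      rw [hiz, pow_succ]
      linear_combination C t ^ m * hz'
  -- the section
  let G : MvPolynomial (Fin d) k → MvPolynomial (Fin d) k := fun f =>
    PowerSeries.coeff N (Θ y (D (h f)))
  have hG : ∀ f, G f ∈ I₀ := fun f => hy _ (hDI _) N (Nat.lt_succ_self N)
  have hGC : ∀ c, G (C c) = 0 := fun c => by
    simp only [G, h, eval₂Hom_C, RingHom.comp_apply]
    rw [← algebraMap_eq, Derivation.map_algebraMap, map_zero, map_zero]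
  have hGadd : ∀ f g, G (f + g) = G f + G g := fun f g => by simp only [G, map_add]
  have hGmul : ∀ f g, G (f * g) = f * G g + g * G f := by
    intro f g
    simp only [G, map_mul, Derivation.leibniz, smul_eq_mul, map_add]
    have key : ∀ a v, PowerSeries.coeff N (Θ y (h a) * v) = a * PowerSeries.coeff N v := fun a v => by
      obtain ⟨r, hr⟩ := hh a
      rw [eq_add_of_sub_eq' hr, add_mul, map_add, PowerSeries.coeff_C_mul, mul_assoc,
        PowerSeries.coeff_X_pow_mul', if_neg (by omega), add_zero]
    rw [key, key]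
  let mk₂ := Ideal.Quotient.mkₐ k (I₀ ^ 2)
  have hmk0 : ∀ f g, mk₂ (G f * G g) = 0 := fun f g => by
    refine Ideal.Quotient.eq_zero_iff_mem.mpr ?_
    rw [pow_two]
    exact Ideal.mul_mem_mul (hG f) (hG g)
  let s₀ : MvPolynomial (Fin d) k →ₐ[k] (MvPolynomial (Fin d) k ⧸ I₀ ^ 2) :=
    { toFun := fun f => mk₂ (f - G f)
      map_one' := by rw [← map_one (C (σ := Fin d) (R := k)), hGC, sub_zero, map_one, map_one]
      map_mul' := fun f g => by
        rw [hGmul, ← map_mul, ← sub_eq_zero, ← map_sub,
          show f * g - (f * G g + g * G f) - (f - G f) * (g - G g) = -(G f * G g) by ring, map_neg,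
          hmk0, neg_zero]
      map_zero' := by rw [← map_zero (C (σ := Fin d) (R := k)), hGC, sub_zero, map_zero, map_zero]
      map_add' := fun f g => by rw [← map_add]; congr 1; rw [hGadd]; ring
      commutes' := fun c => by
        rw [algebraMap_eq, hGC, sub_zero, ← algebraMap_eq, AlgHom.commutes] }
  have hkill : ∀ f, π f = 0 → s₀ f = 0 := by
    intro f hf
    refine Ideal.Quotient.eq_zero_iff_mem.mpr ?_
    obtain ⟨i, z, hi, hiz⟩ := hI (N + 1) le_rfl f hf
    have hredi : red i = f := by
      have := congrArg red hiz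
      rw [hhred, map_add, map_mul, map_pow] at this
      have ht0' : red (C t) = 0 := by
        have := hconst y hy0 (C t ^ 1)
        rw [hΘt, pow_one, pow_one, PowerSeries.constantCoeff_X] at this
        exact this.symm
      rw [ht0', zero_pow N.succ_ne_zero, zero_mul, add_zero] at this
      exact this.symm
    have h1 : G f = PowerSeries.coeff N (Θ y (D i)) := by
      simp only [G, hiz, map_add, Derivation.leibniz, smul_eq_mul]
      rw [Derivation.leibniz_pow, ← algebraMap_eq, Derivation.map_algebraMap]
      simp only [smul_zero, mul_zero, add_zero, map_mul, map_zero, algebraMap_eq, hΘt]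
      rw [PowerSeries.coeff_X_pow_mul', if_neg (by omega), add_zero]
    have h2 : PowerSeries.coeff N (Θ y (C t ^ N * i)) = f := by
      rw [map_mul, hΘt, PowerSeries.coeff_X_pow_mul', if_pos le_rfl, Nat.sub_self,
        PowerSeries.coeff_zero_eq_constantCoeff_apply, hconst y hy0, hredi]
    have h3 : ∀ v ∈ RingHom.ker ψ ^ 2, ∀ m ≤ N, PowerSeries.coeff m (Θ y v) ∈ I₀ ^ 2 := by
      intro v hv
      rw [pow_two] at hv ⊢
      refine Submodule.mul_induction_on hv (fun a ha b hb m hm => ?_)
        fun a b ha hb m hm => by rw [map_add, map_add]; exact add_mem (ha m hm) (hb m hm)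
      rw [map_mul]
      exact coeff_mul_mem _ _ (fun c hc => hy a ha c (by omega)) fun c hc => hy b hb c (by omega)
    have h4 := h3 _ (hD i hi) N le_rfl
    rw [map_sub, map_sub, h2, ← h1] at h4
    rw [← neg_sub]
    exact neg_mem h4
  let g₀ : B₀ →ₐ[k] (MvPolynomial (Fin d) k ⧸ I₀ ^ 2) :=
    (Ideal.Quotient.liftₐ (RingHom.ker π) s₀ hkill).comp
      (Ideal.quotientKerAlgEquivOfSurjective hπ).symm.toAlgHom
  haveI : Algebra.FormallySmooth k B₀ := by
    refine Algebra.FormallySmooth.of_split π g₀ (AlgHom.ext fun b => ?_)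
    obtain ⟨f, rfl⟩ := hπ b
    have : g₀ (π f) = s₀ f := by
      have hsymm : (Ideal.quotientKerAlgEquivOfSurjective hπ).symm (π f) = Ideal.Quotient.mk _ f :=
        (Ideal.quotientKerAlgEquivOfSurjective hπ).injective (by
          rw [AlgEquiv.apply_symm_apply]; exact (Ideal.quotientKerAlgEquivOfSurjective_mk hπ f).symm)
      change Ideal.Quotient.liftₐ _ s₀ hkill ((Ideal.quotientKerAlgEquivOfSurjective hπ).symm (π f)) = _
      rw [hsymm]
      rfl
    change π.kerSquareLift (g₀ (π f)) = π f
    rw [this]
    change π (f - G f) = π f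
    rw [map_sub, show π (G f) = 0 from hG f, sub_zero]
  exact ⟨inferInstance, Algebra.FinitePresentation.of_finiteType.mp ‹_›⟩

end Groth.Agent.CotRigid
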