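import Groth.Prelude.Def_CotT
import Mathlib.Algebra.MvPolynomial.Derivation

/-!
Vanishing of `T¹` of the canonical presentation: linear maps on the kernel of any polynomial
presentation extend to derivations.
-/

universe u

open MvPolynomial TensorProduct

namespace Groth.Agent.CotRigid

theorem exists_coboundary {A B ι τ : Type u} [CommRing A] [CommRing B] [Algebra A B]
    (P : Algebra.Presentation A B ι τ) (M : Type u) [AddCommGroup M] [Module B M]
    (hT : Subsingleton (CotT.T1 P M)) (f : CotT.L1 P →ₗ[B] M) (hf : f ∈ CotT.cocycles1 P M) :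
    ∃ lam, CotT.d1Star P M lam = f :=
  (Submodule.Quotient.mk_eq_zero (CotT.coboundaries1 P M) (x := ⟨f, hf⟩)).mp (hT.elim _ _)

set_option maxHeartbeats 1000000 in
theorem exists_extension_of_T1 {k B₀ : Type u} [CommRing k] [CommRing B₀] [Algebra k B₀]
    (hT : Subsingleton (CotT.T1 (CotT.canon k B₀) B₀)) {σ : Type*}
    (π : MvPolynomial σ k →ₐ[k] B₀) (hπ : Function.Surjective π) (φ : MvPolynomial σ k → B₀)
    (hadd : ∀ a b, π a = 0 → π b = 0 → φ (a + b) = φ a + φ b)
    (hmul : ∀ p a, π a = 0 → φ (p * a) = π p * φ a) :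
    ∃ D : MvPolynomial σ k →ₗ[k] B₀,
      (∀ f g, D (f * g) = π f * D g + π g * D f) ∧ ∀ f, π f = 0 → D f = φ f := by
  classical
  let P := CotT.canon k B₀
  have hval : ∀ x : P.toExtension.Ring,
      algebraMap P.toExtension.Ring B₀ x = MvPolynomial.aeval (id : B₀ → B₀) x :=
    fun x => P.algebraMap_apply x
  choose l hl using hπ
  let q : MvPolynomial B₀ k →ₐ[k] MvPolynomial σ k := MvPolynomial.aeval l
  let j : MvPolynomial σ k →ₐ[k] MvPolynomial B₀ k := MvPolynomial.aeval fun i => X (π (X i))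
  have hπq : ∀ x, π (q x) = MvPolynomial.aeval (id : B₀ → B₀) x := fun x => by
    refine AlgHom.congr_fun (?_ : π.comp q = MvPolynomial.aeval (id : B₀ → B₀)) x
    ext b
    simp [q, hl]
  have hπj : ∀ f, MvPolynomial.aeval (id : B₀ → B₀) (j f) = π f := fun f => by
    refine AlgHom.congr_fun (?_ : (MvPolynomial.aeval (id : B₀ → B₀)).comp j = π) f
    ext i
    simp [j]
  have hzero : φ 0 = 0 := by simpa using hadd 0 0 (map_zero π) (map_zero π)
  have hker : ∀ a : CotT.relMod P, π (q (CotT.jmap P a)) = 0 := fun a => by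
    exact (hπq _).trans ((hval _).symm.trans (CotT.algebraMap_jmap P a))
  let g : CotT.relMod P →ₗ[P.toExtension.Ring] B₀ :=
    { toFun := fun a => φ (q (CotT.jmap P a))
      map_add' := fun a b => by
        refine Eq.trans ?_ (hadd _ _ (hker a) (hker b))
        exact congrArg φ ((congrArg q (map_add (CotT.jmap P) a b)).trans (map_add q _ _))
      map_smul' := fun r a => by
        rw [RingHom.id_apply, map_smul, smul_eq_mul, Algebra.smul_def, hval]
        refine Eq.trans ?_ ((hmul (q r) _ (hker a)).trans (congrArg (· * φ _) (hπq r)))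
        exact congrArg φ (map_mul q r (CotT.jmap P a)) }
  let f₁ : CotT.L1 P →ₗ[B₀] B₀ := LinearMap.liftBaseChange B₀ g
  have hcoc : f₁ ∈ CotT.cocycles1 P B₀ := by
    rw [CotT.cocycles1, LinearMap.mem_ker, CotT.d2Star_apply]
    refine Submodule.linearMap_qext _ ?_
    rw [LinearMap.comp_assoc, CotT.d2_comp_mkQ, LinearMap.zero_comp]
    refine TensorProduct.AlgebraTensorModule.ext fun b a => ?_
    simp only [LinearMap.coe_comp, Function.comp_apply, LinearMap.baseChange_tmul, Submodule.coe_subtype,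
      LinearMap.zero_apply, f₁, LinearMap.liftBaseChange_tmul]
    have ha : CotT.jmap P (a : CotT.relMod P) = 0 := a.2
    change b • φ (q (CotT.jmap P (a : CotT.relMod P))) = 0
    rw [ha, show q (0 : P.toExtension.Ring) = 0 from map_zero q, hzero, smul_zero]
  obtain ⟨lam, hlam⟩ := exists_coboundary P B₀ hT f₁ hcoc
  let D₁ : MvPolynomial B₀ k → B₀ := fun x =>
    lam ((1 : B₀) ⊗ₜ KaehlerDifferential.D k P.toExtension.Ring x)
  let d' : P.toExtension.Ring → B₀ := fun x =>
    lam ((1 : B₀) ⊗ₜ KaehlerDifferential.D k P.toExtension.Ring x)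
  have hadd' : ∀ x y : P.toExtension.Ring, d' (x + y) = d' x + d' y := fun x y => by
    simp only [d', map_add, tmul_add]
  have hC' : ∀ c : k, d' (algebraMap k P.toExtension.Ring c) = 0 := fun c => by
    simp only [d', Derivation.map_algebraMap, tmul_zero, map_zero]
  have hmul' : ∀ x y : P.toExtension.Ring, d' (x * y) = algebraMap P.toExtension.Ring B₀ x * d' y +
      algebraMap P.toExtension.Ring B₀ y * d' x := fun x y => by
    have h : ∀ (r : P.toExtension.Ring) (w : Ω[P.toExtension.Ring⁄k]),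
        lam ((1 : B₀) ⊗ₜ (r • w)) = algebraMap P.toExtension.Ring B₀ r * lam ((1 : B₀) ⊗ₜ w) := by
      intro r w
      rw [← smul_tmul, Algebra.smul_def, mul_one, ← smul_eq_mul, ← map_smul, smul_tmul', smul_eq_mul,
        mul_one]
    simp only [d', Derivation.leibniz, tmul_add, map_add, h]
  have hD₁add : ∀ x y, D₁ (x + y) = D₁ x + D₁ y := hadd'
  have hD₁C : ∀ c : k, D₁ (algebraMap k _ c) = 0 := hC'
  have hD₁mul : ∀ x y, D₁ (x * y) = MvPolynomial.aeval (id : B₀ → B₀) x * D₁ y +
      MvPolynomial.aeval (id : B₀ → B₀) y * D₁ x := fun x y =>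
    (hmul' x y).trans (by rw [hval x, hval y])
  have hD₁rel : ∀ x, MvPolynomial.aeval (id : B₀ → B₀) x = 0 → D₁ x = φ (q x) := fun x hx => by
    have hx' : x ∈ (Algebra.Generators.self k B₀).ker := (hval x).trans hx
    have h := LinearMap.congr_fun hlam ((1 : B₀) ⊗ₜ Finsupp.single (⟨x, hx'⟩ : CotT.CanonRels k B₀) (1 : P.toExtension.Ring))
    rw [CotT.d1Star_apply, LinearMap.comp_apply, CotT.d1_tmul, one_smul, CotT.jmap_single, one_mul] at h
    refine h.trans ?_
    change f₁ _ = _
    rw [show f₁ = LinearMap.liftBaseChange B₀ g from rfl, LinearMap.liftBaseChange_tmul, one_smul]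
    change φ (q (CotT.jmap P _)) = _
    rw [CotT.jmap_single, one_mul]
    rfl
  let δ : MvPolynomial σ k → B₀ := fun f => φ (q (j f) - f)
  have hδker : ∀ f, π (q (j f) - f) = 0 := fun f => by rw [map_sub, hπq, hπj, sub_self]
  refine ⟨{ toFun := fun f => D₁ (j f) - δ f, map_add' := fun a b => ?_, map_smul' := fun c a => ?_ },
    fun a b => ?_, fun f hf => ?_⟩
  · simp only [δ]
    rw [map_add, hD₁add, map_add, show q (j a) + q (j b) - (a + b) = (q (j a) - a) + (q (j b) - b) by ring,
      hadd _ _ (hδker a) (hδker b)]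
    ring
  · simp only [RingHom.id_apply, δ, Algebra.smul_def]
    rw [map_mul, j.commutes, hD₁mul, hD₁C, mul_zero, add_zero, map_mul, q.commutes,
      show algebraMap k (MvPolynomial σ k) c * q (j a) - algebraMap k _ c * a =
        algebraMap k (MvPolynomial σ k) c * (q (j a) - a) by ring, hmul _ _ (hδker a), AlgHom.commutes,
      AlgHom.commutes]
    ring
  · simp only [LinearMap.coe_mk, AddHom.coe_mk, δ]
    rw [map_mul, hD₁mul, map_mul, show q (j a) * q (j b) - a * b =
      q (j a) * (q (j b) - b) + b * (q (j a) - a) by ring,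
      hadd _ _ (by rw [map_mul, hδker, mul_zero]) (by rw [map_mul, hδker, mul_zero]),
      hmul _ _ (hδker b), hmul _ _ (hδker a), hπq, hπj, hπj]
    ring
  · simp only [LinearMap.coe_mk, AddHom.coe_mk, δ]
    rw [hD₁rel _ (by rw [hπj, hf])]
    have h1 : π (q (j f)) = 0 := by rw [hπq, hπj, hf]
    have h := hadd (q (j f) - f) f (hδker f) hf
    rw [sub_add_cancel] at h
    rw [h, add_sub_cancel_left]

end Groth.Agent.CotRigid
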